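import Cfsg.Agent.H892.EP.Rows
import Cfsg.Agent.H719.RowTData
import Cfsg.Agent.H60.RealEasy
import Cfsg.Agent.S1059

/-!
# `G₂(q)`, `q` odd: the principal `p`-block for `p ∣ q⁴ + q² + 1` (helper831, for S4929)
-/

set_option autoImplicit false
set_option linter.unusedVariables false

open Subgroup

namespace Cfsg.Agent.H831.EP

open Cfsg Cfsg.Lie Cfsg.Agent.H892.EP
open Cfsg.Agent.BpExc Cfsg.Agent.BpExc.TowChev Cfsg.Agent.BpExc.LangFr Cfsg.Agent.BpExc.RowsUntw Cfsg.Agent.BpExc.FamInst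
open Cfsg.Agent.H696 Cfsg.Agent.H696.GmnUntw Cfsg.Agent.H696.GmnInv
  Cfsg.Agent.H712.Gmn
open Cfsg.Agent.H719 (HasT)

/-- all Sylow subgroups are cyclic if one is -/
theorem cyc_all {G : Type*} [Group G] [Finite G] {p : ℕ} [Fact p.Prime]
    (h : ∃ P : Sylow p G, IsCyclic ↥(P : Subgroup G)) (Q : Sylow p G) : IsCyclic ↥(Q : Subgroup G) := by
  obtain ⟨P, hP⟩ := h
  exact isCyclic_of_surjective (P.equiv Q).toMonoidHom (P.equiv Q).surjective

theorem dvd_red {p b n : ℕ} (hp : p.Prime) (hb : b.Prime) (hpb : p ≠ b) (h : p ∣ n) : p ∣ Cfsg.Agent.H719.red b n := by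
  unfold Cfsg.Agent.H719.red
  split_ifs with h1
  · obtain ⟨c, rfl⟩ := h1
    rw [Nat.mul_div_cancel_left _ hb.pos]
    rcases (Nat.Prime.dvd_mul hp).1 h with h2 | h2
    · exact absurd ((Nat.prime_dvd_prime_iff_eq hp hb).1 h2) hpb
    · exact h2
  · exact h

/-- the arithmetic: `p ∣ q² + q + 1` or `p ∣ q² - q + 1`, and `p ≠ 3` -/
theorem arith {p q : ℕ} (hp : p.Prime) (hq : 1 ≤ q) (h1 : ¬ p ∣ q ^ 2 - 1) (h2 : ¬ p ∣ q)
    (h : p ∣ q ^ 6 * (q ^ 2 - 1) * (q ^ 6 - 1)) : p ≠ 3 ∧ (p ∣ 1 + q + q ^ 2 ∨ p ∣ 1 + q ^ 2 - q) := by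
  have hq2 : 1 ≤ q ^ 2 := Nat.one_le_pow _ _ hq
  have hq6 : 1 ≤ q ^ 6 := Nat.one_le_pow _ _ hq
  have hqq : q ≤ q ^ 2 := by nlinarith
  constructor
  · rintro rfl
    apply h1
    have h3 : q % 3 = 1 ∨ q % 3 = 2 := by omega
    have h4 : q ^ 2 % 3 = 1 := by
      rw [Nat.pow_mod]
      rcases h3 with h | h <;> simp [h]
    omega
  · have h6 : p ∣ q ^ 6 - 1 := by
      rcases (Nat.Prime.dvd_mul hp).1 h with h' | h'
      · rcases (Nat.Prime.dvd_mul hp).1 h' with h'' | h''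
        · exact absurd (hp.dvd_of_dvd_pow h'') h2
        · exact absurd h'' h1
      · exact h'
    have e : q ^ 6 - 1 = (q ^ 2 - 1) * ((1 + q + q ^ 2) * (1 + q ^ 2 - q)) := by
      zify [hq2, hq6, hqq, show q ≤ 1 + q ^ 2 by omega]
      ring
    rw [e] at h6
    rcases (Nat.Prime.dvd_mul hp).1 h6 with h' | h'
    · exact absurd h' h1
    · exact (Nat.Prime.dvd_mul hp).1 h'

/-- `d = 3, 6` (`p ∣ q² ± q + 1`) -/
theorem rest_g2 (F : Type) [Field F] [Fintype F] (ho : Odd (Fintype.card F)) (p : ℕ) [Fact p.Prime] (hp : p ≠ 2)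
    (h1 : ¬ p ∣ Fintype.card F ^ 2 - 1) (h2 : ¬ p ∣ Fintype.card F) (hd : p ∣ Nat.card ↥(Lie.chevG2.group F)) :
    EvAt p ↥(Lie.chevG2.group F) := by
  have hP : p.Prime := Fact.out
  have hF1 : 1 ≤ Fintype.card F := Fintype.card_pos
  have hcard : Nat.card ↥(chevG2.group F) =
      Fintype.card F ^ 6 * (Fintype.card F ^ 2 - 1) * (Fintype.card F ^ 6 - 1) :=
    Cfsg.Agent.S1059.result (F := F) rfl
  have hfin : Finite ↥(chevG2.group F) := by
    apply Nat.finite_of_card_ne_zero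
    intro h0
    rw [h0] at hcard
    have hF2 : 2 ≤ Fintype.card F := Fintype.one_lt_card
    have a1 : 0 < Fintype.card F ^ 6 := by positivity
    have a2 : 0 < Fintype.card F ^ 2 - 1 := by
      have : 2 ^ 2 ≤ Fintype.card F ^ 2 := Nat.pow_le_pow_left hF2 _
      omega
    have a3 : 0 < Fintype.card F ^ 6 - 1 := by
      have : 2 ^ 6 ≤ Fintype.card F ^ 6 := Nat.pow_le_pow_left hF2 _
      omega
    have := Nat.mul_pos (Nat.mul_pos a1 a2) a3
    omega
  obtain ⟨h3, hor⟩ := arith hP hF1 h1 h2 (hcard ▸ hd)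
  have hqq : Fintype.card F ≤ 1 + Fintype.card F ^ 2 := by nlinarith
  have hcyc : ∀ P : Sylow p ↥(chevG2.group F), IsCyclic ↥(P : Subgroup ↥(chevG2.group F)) := by
    rcases hor with h | h
    · have T := H719.hasT_G2_3 (F := F) (q := Fintype.card F) (N := 1 + Fintype.card F + Fintype.card F ^ 2)
        (Phi := 1 + Fintype.card F + Fintype.card F ^ 2) rfl (by push_cast; ring) (by push_cast; ring)
      exact cyc_all (T.cyclic_sylow (dvd_red hP Nat.prime_three h3 h))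
    · have T := H719.hasT_G2_6 (F := F) (q := Fintype.card F) (N := 1 + Fintype.card F ^ 2 - Fintype.card F)
        (Phi := 1 + Fintype.card F ^ 2 - Fintype.card F) rfl (by rw [Nat.cast_sub hqq]; push_cast; ring)
        (by rw [Nat.cast_sub hqq]; push_cast; ring)
      exact cyc_all (T.cyclic_sylow (dvd_red hP Nat.prime_three h3 h))
  obtain ⟨z, hz⟩ := exists_prime_orderOf_dvd_card' p hd
  obtain ⟨r, hr⟩ := CharP.exists F
  have hrp : Fact r.Prime := ⟨CharP.char_is_prime F r⟩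
  have hpr : p ≠ r := by
    rintro rfl
    apply h2
    obtain ⟨n, hn⟩ := FiniteField.card F p
    rw [hn.2]
    exact dvd_pow_self _ n.pos.ne'
  exact evAt_of_real_cyclic hp hcyc hz
    (isConj_inv g2T inv_G2 odd_one (center_eq_bot_of_simple (S1055.result (exists_ne_algClosed _)))
      (GmnNeg.negG2 g2T _) Fact.out hpr (by rw [← hz, pow_orderOf_eq_one]))

end Cfsg.Agent.H831.EP
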